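import Cfsg.Agent.H89.GW.SmallThree
import Cfsg.Agent.H727.GW.Sp

/-!
# Gluck-Wolf: [S3'] `small3'` (helper89)
-/

set_option autoImplicit false

namespace Cfsg.Agent.H89.GW

open Cfsg.Agent.H662.GW

variable {n j : ℕ} {Y U : Type*} [Group Y] [Finite Y] [AddCommGroup U] [Finite U]
    [DistribMulAction Y U] {X : Subgroup Y} {x : Y} {B : U → U → ZMod 2}

/-- **[S3']** -/
theorem small3' {f : ℕ} (h : SA (U := U) 3 2 n j X x B) (hn : n ≤ 8) (hf : 1 ≤ f)
    (hI : Ineq 3 2 n j (3 ^ f) (Subgroup.centralizer ({x} : Set Y)).index) : n ≤ 5 :=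
  SmallThree.small3'_of h hn hf hI (H727.GW.SA.card_dvd h) (H727.GW.SA.index_mul_le h)

end Cfsg.Agent.H89.GW
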