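import Cfsg.Agent.H497.AlmostSimple
import Cfsg.Agent.ThreePrime.Main
import Cfsg.Agent.S1163
import Cfsg.Agent.S2126

/-!
# Gluck-Wolf: 3'-groups with trivial solvable radical whose order divides the order of `Sp_12(2)` (helper89)
-/

set_option autoImplicit false

namespace Cfsg.Agent.H89.GW.SzBound

open Subgroup

universe u

theorem card_mulAut_le (G : Type*) [Group G] [Finite G] :
    Nat.card (MulAut G) ≤ Nat.card (Cfsg.Out G) * Nat.card G := by
  rw [Subgroup.card_eq_card_quotient_mul_card_subgroup (Cfsg.Inn G)]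
  exact Nat.mul_le_mul_left _ (Nat.card_le_card_of_surjective _ (MulAut.conj : G →* MulAut G).rangeRestrict_surjective)

/-- a simple 3'-group whose order divides `|Sp_12(2)|` -/
theorem simple {K : Type u} [Group K] [Finite K] [IsSimpleGroup K] (hK : ¬ IsMulCommutative K) (h3 : ¬ 3 ∣ Nat.card K)
    (hd : Nat.card K ∣ 2 ^ 36 * (3 * 15 * 63 * 255 * 1023 * 4095)) :
    13 ∣ Nat.card K ∧ Nat.card (MulAut K) ≤ 87360 := by
  obtain ⟨F, _, _, m, hm, hF, ⟨e⟩⟩ := ThreePrime.Main.isoSuzuki' hK h3
  have hc : Nat.card K = (2 ^ (2 * m + 1)) ^ 2 * (2 ^ (2 * m + 1) - 1) * ((2 ^ (2 * m + 1)) ^ 2 + 1) := by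
    rw [Nat.card_congr e.toEquiv, (S1163.result hm hF).1]
  have hm9 : m ≤ 8 := by
    have h1 : 2 ^ (2 * (2 * m + 1)) ∣ 2 ^ 36 * (3 * 15 * 63 * 255 * 1023 * 4095) := by
      refine Dvd.dvd.trans ?_ hd
      rw [hc, mul_comm 2 (2 * m + 1), pow_mul, mul_assoc]
      exact dvd_mul_right _ _
    have h2 : 2 ^ (2 * (2 * m + 1)) ∣ 2 ^ 36 :=
      Nat.Coprime.dvd_of_dvd_mul_right (Nat.Coprime.pow_left _ (by norm_num)) h1
    have h3 := (Nat.pow_dvd_pow_iff_le_right (by norm_num : 1 < 2)).1 h2
    omega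
  have hm1 : m = 1 := by
    rw [hc] at hd
    by_contra hne
    have hm2 : 2 ≤ m := by omega
    interval_cases m <;> revert hd <;> norm_num
  subst hm1
  have hc' : Nat.card K = 29120 := by rw [hc]; norm_num
  refine ⟨by rw [hc']; norm_num, ?_⟩
  have h1 : Nat.card (MulAut K) = Nat.card (MulAut ↥(Cfsg.Lie.Sz F (2 ^ (1 + 1)))) :=
    Nat.card_congr (MulAut.congr e).toEquiv
  have : Finite ↥(Cfsg.Lie.Sz F (2 ^ (1 + 1))) := Finite.of_equiv K e.toEquiv
  have h2 := card_mulAut_le ↥(Cfsg.Lie.Sz F (2 ^ (1 + 1)))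
  rw [S2126.result hm hF, ← Nat.card_congr e.toEquiv, hc'] at h2
  rw [h1]
  exact h2

/-- **a 3'-group with trivial solvable radical whose order divides `|Sp_12(2)|`** -/
theorem card_le {Q : Type u} [Group Q] [Finite Q] (h : H497.RadTriv Q) (h3 : ¬ 3 ∣ Nat.card Q)
    (hd : Nat.card Q ∣ 2 ^ 36 * (3 * 15 * 63 * 255 * 1023 * 4095)) : Nat.card Q ≤ 87360 := by
  rcases subsingleton_or_nontrivial Q with hs | hn
  · rw [Nat.card_of_subsingleton (1 : Q)]
    norm_num
  have key : ∀ K : Subgroup Q, Cfsg.IsComponent K → 13 ∣ Nat.card K ∧ Nat.card (MulAut K) ≤ 87360 := by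
    intro K hK
    have := H497.component_isSimple h hK
    exact simple (H497.component_not_comm hK) (fun h' => h3 (h'.trans (card_subgroup_dvd_card K)))
      ((card_subgroup_dvd_card K).trans hd)
  have huniq : ∀ K L : Subgroup Q, Cfsg.IsComponent K → Cfsg.IsComponent L → K = L := by
    intro K L hK hL
    by_contra hne
    have hcomm : ∀ (k : K) (l : L), Commute (K.subtype k) (L.subtype l) := by
      intro k l
      have h1 := SignalizersComponents.Components.component_le_centralizer_of_ne hK hL hne k.2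
      rw [mem_centralizer_iff] at h1
      exact (h1 l l.2).symm
    have hinj : Function.Injective (K.subtype.noncommCoprod L.subtype hcomm) := by
      rw [MonoidHom.noncommCoprod_injective]
      refine ⟨K.subtype_injective, L.subtype_injective, ?_⟩
      rw [range_subtype, range_subtype, Subgroup.disjoint_def]
      exact fun {x} h1 h2 => H497.disjoint_components h hK hL hne h1 h2
    have h1 := card_dvd_of_injective _ hinj
    rw [Nat.card_prod] at h1
    have h2 : 13 * 13 ∣ 2 ^ 36 * (3 * 15 * 63 * 255 * 1023 * 4095) :=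
      ((mul_dvd_mul (key K hK).1 (key L hL).1).trans h1).trans hd
    revert h2
    norm_num
  obtain ⟨S, hSn, hSs, hSc, hC⟩ := H497.almost_simple h huniq
  have hS : 13 ∣ Nat.card S ∧ Nat.card (MulAut S) ≤ 87360 :=
    simple hSc (fun h' => h3 (h'.trans (card_subgroup_dvd_card S))) ((card_subgroup_dvd_card S).trans hd)
  have hinj : Function.Injective (MulAut.conjNormal : Q →* MulAut S) := by
    rw [injective_iff_map_eq_one]
    intro g hg
    have h1 : g ∈ centralizer (S : Set Q) := by
      rw [mem_centralizer_iff]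
      intro s hs
      have h2 : ((MulAut.conjNormal g : MulAut S) ⟨s, hs⟩ : Q) = s := by rw [hg]; rfl
      rw [MulAut.conjNormal_apply] at h2
      exact (mul_inv_eq_iff_eq_mul.1 h2).symm
    rw [hC] at h1
    exact mem_bot.1 h1
  exact (Nat.card_le_card_of_injective _ hinj).trans hS.2

end Cfsg.Agent.H89.GW.SzBound
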