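import Cfsg.Agent.H662.GW.Defs
import Cfsg.Agent.H397.GW.NumSmall
import Cfsg.Agent.H511.GW.Cliff
import Cfsg.Agent.S4374
import Cfsg.Agent.H89.GW.SzBound

/-!
# Gluck-Wolf: [S3'] the counting inequality kills `n = 6, 7, 8` for `p = 3`, `s = 2` (helper89)
-/

set_option autoImplicit false

namespace Cfsg.Agent.H89.GW.SmallThree

open Subgroup Cfsg.Agent.H662.GW

universe u v

theorem isSolvable_sup {G : Type*} [Group G] {N A : Subgroup G} [N.Normal] (hN : Group.IsSolvable ↥N)
    (hA : Group.IsSolvable ↥A) : Group.IsSolvable ↥(N ⊔ A : Subgroup G) := by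
  set f := QuotientGroup.mk' N with hf
  have hker : f.ker = N := QuotientGroup.ker_mk' N
  have hmap : (N ⊔ A).map f = A.map f := by
    rw [Subgroup.map_sup, (Subgroup.map_eq_bot_iff (f := f) N).mpr hker.ge, bot_sup_eq]
  have hA' : Group.IsSolvable ↥((N ⊔ A).map f) := by
    rw [hmap]
    exact Group.isSolvable_of_surjective (f := f.subgroupMap A) (f.subgroupMap_surjective A)
  refine Group.isSolvable_of_ker_le_range (Subgroup.inclusion (le_sup_left : N ≤ N ⊔ A))
    (f.subgroupMap (N ⊔ A)) ?_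
  rintro ⟨x, hx⟩ hx1
  rw [MonoidHom.mem_ker] at hx1
  have h1 : f x = 1 := congrArg Subtype.val hx1
  rw [← MonoidHom.mem_ker, hker] at h1
  exact ⟨⟨x, h1⟩, rfl⟩

/-- the solvable radical -/
theorem exists_radical (G : Type*) [Group G] [Finite G] : ∃ K : Subgroup G, K.Normal ∧ Group.IsSolvable ↥K ∧
    ∀ M : Subgroup G, M.Normal → Group.IsSolvable ↥M → M ≤ K := by
  have hfin : (Set.Finite {N : Subgroup G | N.Normal ∧ Group.IsSolvable ↥N}) := Set.toFinite _
  obtain ⟨K, hK⟩ := hfin.exists_maximal ⟨⊥, (inferInstance : (⊥ : Subgroup G).Normal), inferInstance⟩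
  obtain ⟨hKn, hKs⟩ := hK.prop
  refine ⟨K, hKn, hKs, fun M hM hMs => ?_⟩
  have h1 : (K ⊔ M : Subgroup G) ∈ {N : Subgroup G | N.Normal ∧ Group.IsSolvable ↥N} :=
    ⟨Subgroup.sup_normal K M, isSolvable_sup hKs hMs⟩
  exact le_sup_right.trans (hK.le_of_ge h1 le_sup_left)

/-- a solvable normal subgroup of an irreducible group -/
theorem card_le_of_solvable {Y : Type u} {U : Type v} [Group Y] [Finite Y] [AddCommGroup U] [Finite U]
    [DistribMulAction Y U] (R : Subgroup Y) [hR : R.Normal] (hs : Group.IsSolvable R)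
    (faith : ∀ y : Y, (∀ u : U, y • u = u) → y = 1)
    (irr : ∀ W : AddSubgroup U, (∀ y : Y, ∀ w ∈ W, y • w ∈ W) → W = ⊥ ∨ W = ⊤) :
    Nat.card R ≤ Nat.card U ^ 3 := by
  have : FaithfulSMul R U := ⟨fun {a b} hab => by
    have h1 : ((b : Y)⁻¹ * a) = 1 := faith _ fun u => by
      rw [mul_smul]
      have h2 : (a : Y) • u = (b : Y) • u := hab u
      rw [h2, inv_smul_smul]
    exact Subtype.ext (inv_mul_eq_one.1 h1).symm⟩
  obtain ⟨v₁, v₂, v₃, hv⟩ := S4374.result (A := R) (V := U) hs (by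
    intro A hA
    obtain ⟨B, hB1, hB2, hB3⟩ := H511.GW.cr_of_normal R irr A (fun x hx u hu => hA ⟨x, hx⟩ u hu)
    exact ⟨B, fun a w hw => hB1 a a.2 w hw, hB2, hB3⟩)
  have hinj : Function.Injective (fun a : R => ((a • v₁, a • v₂, a • v₃) : U × U × U)) := by
    intro a b hab
    simp only [Prod.mk.injEq] at hab
    obtain ⟨h1, h2, h3⟩ := hab
    have h4 : b⁻¹ * a = 1 := hv _ (by rw [mul_smul, h1, inv_smul_smul]) (by rw [mul_smul, h2, inv_smul_smul])
      (by rw [mul_smul, h3, inv_smul_smul])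
    exact (inv_mul_eq_one.1 h4).symm
  calc Nat.card R ≤ Nat.card (U × U × U) := Nat.card_le_card_of_injective _ hinj
    _ = Nat.card U ^ 3 := by rw [Nat.card_prod, Nat.card_prod]; ring

/-- the solvable radical of a normal 3'-subgroup of an irreducible subgroup of `GL_12(2)`, `Sp_12(2)` order -/
theorem card_le {Y : Type u} {U : Type v} [Group Y] [Finite Y] [AddCommGroup U] [Finite U]
    [DistribMulAction Y U] (X : Subgroup Y) [hX : X.Normal] (h3 : ¬ 3 ∣ Nat.card X)
    (hd : Nat.card X ∣ 2 ^ 36 * (3 * 15 * 63 * 255 * 1023 * 4095))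
    (faith : ∀ y : Y, (∀ u : U, y • u = u) → y = 1)
    (irr : ∀ W : AddSubgroup U, (∀ y : Y, ∀ w ∈ W, y • w ∈ W) → W = ⊥ ∨ W = ⊤) :
    Nat.card X ≤ Nat.card U ^ 3 * 87360 := by
  obtain ⟨R, hRn, hRs, hRmax⟩ := exists_radical X
  have hRc : R.Characteristic := by
    rw [characteristic_iff_map_le]
    intro φ
    refine hRmax _ (hRn.map _ φ.surjective) ?_
    exact Group.isSolvable_of_surjective (f := (φ.toMonoidHom).subgroupMap R) (MonoidHom.subgroupMap_surjective _ R)
  have hRn' : (R.map X.subtype).Normal := ConjAct.normal_of_characteristic_of_normal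
  have hRs' : Group.IsSolvable (R.map X.subtype) :=
    Group.isSolvable_of_surjective (f := (X.subtype).subgroupMap R) (MonoidHom.subgroupMap_surjective _ R)
  have h1 := card_le_of_solvable (U := U) (R.map X.subtype) hRs' faith irr
  rw [Subgroup.card_map_of_injective X.subtype_injective] at h1
  have hq : Nat.card X = Nat.card (X ⧸ R) * Nat.card R := Subgroup.card_eq_card_quotient_mul_card_subgroup R
  have h2 : Nat.card (X ⧸ R) ≤ 87360 := by
    refine SzBound.card_le (H497.radTriv_quotient R hRs hRmax) (fun h => h3 ?_) (Dvd.dvd.trans ?_ hd)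
    · rw [hq]; exact h.mul_right _
    · rw [hq]; exact dvd_mul_right _ _
  rw [hq, mul_comm]
  exact Nat.mul_le_mul h1 h2

section
variable {n j : ℕ} {Y : Type u} {U : Type v} [Group Y] [Finite Y] [AddCommGroup U] [Finite U]
    [DistribMulAction Y U] {X : Subgroup Y} {x : Y}

/-- the class of `x` has at most `|X|` elements -/
theorem index_le {p s : ℕ} {B : U → U → ZMod s} (h : SA (U := U) p s n j X x B) :
    (centralizer ({x} : Set Y)).index ≤ Nat.card X := by
  have h1 := (centralizer ({x} : Set Y)).index_mul_card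
  have h2 := X.index_mul_card
  rw [h.idx] at h2
  have h3 : p ≤ Nat.card (centralizer ({x} : Set Y)) := by
    rw [← h.ord, ← Nat.card_zpowers]
    refine Subgroup.card_le_of_le ?_
    rw [zpowers_le]
    exact mem_centralizer_singleton_iff.2 rfl
  have h4 : (centralizer ({x} : Set Y)).index * p ≤ p * Nat.card X := by
    rw [h2, ← h1]
    exact Nat.mul_le_mul_left _ h3
  rw [mul_comm] at h4
  exact Nat.le_of_mul_le_mul_left h4 h.hp.pos

/-- **[S3']**, from the two order facts [SP1'] and [SP3] -/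
theorem small3'_of {B : U → U → ZMod 2} {f : ℕ} (h : SA (U := U) 3 2 n j X x B) (hn : n ≤ 8) (hf : 1 ≤ f)
    (hI : Ineq 3 2 n j (3 ^ f) (Subgroup.centralizer ({x} : Set Y)).index)
    (sp1 : Nat.card Y ∣ 2 ^ (n ^ 2) * ∏ i ∈ Finset.range n, (2 ^ (2 * (i + 1)) - 1))
    (sp3 : (Subgroup.centralizer ({x} : Set Y)).index *
      (3 * (2 ^ ((n - j) ^ 2) * ∏ i ∈ Finset.range (n - j), (2 ^ (2 * (i + 1)) - 1)))
      ≤ 2 ^ (n ^ 2) * ∏ i ∈ Finset.range n, (2 ^ (2 * (i + 1)) - 1)) : n ≤ 5 := by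
  by_contra hcon
  have hn6 : 6 ≤ n := by omega
  have hj := h.hj
  have hjn := h.hjn
  have hn678 : n = 6 ∨ n = 7 ∨ n = 8 := by omega
  rcases hn678 with rfl | rfl | rfl
  · by_cases hj2 : j ≤ 2
    · exact H397.GW.num3_six hj hj2 hf sp3 hI
    · have hM := H397.GW.num3_six' (by omega) hjn hf hI
      have h1 := index_le h
      have hX := h.nX
      have h2 : Nat.card X ≤ Nat.card U ^ 3 * 87360 := by
        refine card_le (U := U) X h.cop ((card_subgroup_dvd_card X).trans (sp1.trans ?_)) h.faith h.irr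
        simp only [Finset.prod_range_succ, Finset.prod_range_zero]
        norm_num
      rw [h.card] at h2
      norm_num at h2 hM
      omega
  · exact H397.GW.num3_seven hj hjn hf sp3 hI
  · exact H397.GW.num3_eight hj hjn hf sp3 hI

end

end Cfsg.Agent.H89.GW.SmallThree
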